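import Mathlib
import Groth.Agent.FlatCrit.Local
import Groth.Agent.FlatLocus.Model
import Groth.Agent.GenFlat.Descent
import Groth.Agent.ModModel.Basic

/-!
# Flat quasi-finite slices of flat finitely presented algebras
-/

set_option autoImplicit false

universe u

open TensorProduct
open scoped Pointwise

namespace Groth.Agent.QFFlatSlice

variable {R : Type u} [CommRing R]

section Cut

variable {S : Type u} [CommRing S] [Algebra R S]

/-- Slicing criterion over a noetherian base: dividing by an element which is regular on the fibre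
keeps flatness at the points of that fibre. -/
theorem flat_quotient_localized [IsNoetherianRing R] [Algebra.FiniteType R S] [Module.Flat R S]
    (p : Ideal R) [p.IsPrime] (f : S)
    (hf : (1 : p.ResidueField) ⊗ₜ[R] f ∈ nonZeroDivisors (p.Fiber S))
    (q : Ideal S) [q.IsPrime] [hqp : q.LiesOver p] :
    Module.Flat R (LocalizedModule q.primeCompl (S ⧸ Ideal.span {f})) := by
  have : IsNoetherianRing S := Algebra.FiniteType.isNoetherianRing R S
  let A := Localization.AtPrime p
  let B := Localization.AtPrime q
  let φ : A →+* B := Localization.localRingHom p q (algebraMap R S) hqp.over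
  let _ : Algebra A B := φ.toAlgebra
  have : IsScalarTower R A B := IsScalarTower.of_algebraMap_eq fun r => by
    change _ = φ _
    rw [Localization.localRingHom_to_map, ← IsScalarTower.algebraMap_apply R S B]
  have : IsLocalHom (algebraMap A B) := Localization.isLocalHom_localRingHom _ _ _ _
  have : Module.Flat A B := (Module.flat_iff_of_isLocalization A p.primeCompl B).2 inferInstance
  have hJ : (IsLocalRing.maximalIdeal A).map (algebraMap A B) ≤ Ideal.jacobson ⊥ :=
    le_trans (((IsLocalRing.local_hom_TFAE (algebraMap A B)).out 0 2).mp ‹_›)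
      (IsLocalRing.maximalIdeal_le_jacobson _)
  let fB := algebraMap S B f
  let u : B →ₗ[A] B := LinearMap.mulLeft A fB
  -- multiplication by `f` on `S ⊗ k(p)`
  let k := p.ResidueField
  let m₀ : S ⊗[R] k →ₗ[S] S ⊗[R] k := LinearMap.lsmul S (S ⊗[R] k) f
  have hm₀ : Function.Injective m₀ := by
    intro x y hxy
    apply (TensorProduct.comm R S k).injective
    refine mem_nonZeroDivisors_iff_left.mp hf |> fun h => sub_eq_zero.mp (h _ ?_)
    rw [mul_sub, sub_eq_zero]
    have key : ∀ z : S ⊗[R] k, TensorProduct.comm R S k (m₀ z) =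
        ((1 : k) ⊗ₜ[R] f) * TensorProduct.comm R S k z := by
      intro z
      induction z with
      | zero => simp
      | tmul s c => simp [m₀, TensorProduct.smul_tmul']
      | add a b ha hb => simp only [map_add, ha, hb, mul_add]
    rw [← key, ← key, hxy]
  have hB : Function.Injective (m₀.lTensor B) := Module.Flat.lTensor_preserves_injective_linearMap _ hm₀
  let E : B ⊗[S] (S ⊗[R] k) ≃+ k ⊗[A] B :=
    ((TensorProduct.AlgebraTensorModule.cancelBaseChange R S S B k).restrictScalars R ≪≫ₗ
      TensorProduct.comm R B k).toAddEquiv.trans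
      (TensorProduct.equivOfCompatibleSMul R A A k B).symm.toAddEquiv
  have hE : ∀ z, u.lTensor k (E z) = E (m₀.lTensor B z) := by
    intro z
    induction z with
    | zero => simp
    | add a b ha hb => simp only [map_add, ha, hb]
    | tmul b z =>
      induction z with
      | zero => simp
      | add a c ha hc => simp only [TensorProduct.tmul_add, map_add, ha, hc]
      | tmul s c =>
        simp [E, m₀, u, fB, Algebra.smul_def, mul_assoc]
        rfl
  have hu : Function.Injective (u.lTensor k) := by
    intro x y hxy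
    obtain ⟨x, rfl⟩ := E.surjective x
    obtain ⟨y, rfl⟩ := E.surjective y
    rw [hE, hE] at hxy
    rw [hB (E.injective hxy)]
  have hflat := (FlatCrit.injective_and_flat_coker (R := A) (S := B) hJ u hu).2
  have : Module.Flat R (B ⧸ LinearMap.range u) := Module.Flat.trans R A _
  -- identify the cokernel with the localized quotient
  let I : Ideal S := Ideal.span {f}
  have hr : (LinearMap.range u).restrictScalars R = (I • ⊤ : Submodule S B).restrictScalars R := by
    ext z
    simp only [Submodule.restrictScalars_mem, LinearMap.mem_range, u, LinearMap.mulLeft_apply]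
    rw [show I = Ideal.span {f} from rfl, Submodule.ideal_span_singleton_smul,
      Submodule.mem_smul_pointwise_iff_exists]
    exact exists_congr fun b => by simp [fB, Algebra.smul_def]
  let e : (B ⧸ LinearMap.range u) ≃ₗ[R] LocalizedModule q.primeCompl (S ⧸ I) :=
    (Submodule.Quotient.restrictScalarsEquiv R _).symm ≪≫ₗ Submodule.quotEquivOfEq _ _ hr ≪≫ₗ
      Submodule.Quotient.restrictScalarsEquiv R _ ≪≫ₗ
      ((tensorQuotEquivQuotSMul B I).symm ≪≫ₗ
        (LocalizedModule.equivTensorProduct q.primeCompl (S ⧸ I)).symm.restrictScalars S).restrictScalars R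
  exact Module.Flat.of_linearEquiv e.symm

/-- Spreading out flatness at a prime of a noetherian quotient to a basic open. -/
theorem exists_away_flat [IsNoetherianRing R] [Algebra.FiniteType R S] (q : Ideal S) [q.IsPrime]
    (h : Module.Flat R (LocalizedModule q.primeCompl S)) :
    ∃ g ∉ q, Module.Flat R (Localization.Away g) := by
  have : Algebra.FinitePresentation R S := Algebra.FinitePresentation.of_finiteType.mp ‹_›
  obtain ⟨g, hg, hsub⟩ : ∃ g, g ∉ q ∧ (PrimeSpectrum.basicOpen g : Set (PrimeSpectrum S)) ⊆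
      {q' | Module.Flat R (LocalizedModule q'.asIdeal.primeCompl S)} := by
    obtain ⟨_, ⟨g, rfl⟩, hg, hsub⟩ :=
      PrimeSpectrum.isTopologicalBasis_basic_opens.exists_subset_of_mem_open
        (show (⟨q, ‹_›⟩ : PrimeSpectrum S) ∈
          {q' : PrimeSpectrum S | Module.Flat R (LocalizedModule q'.asIdeal.primeCompl S)} from h)
        Groth.Agent.FlatLocus.isOpen_flatLocus
    exact ⟨g, hg, hsub⟩
  refine ⟨g, hg, ?_⟩
  let T := Localization.Away g
  refine Module.flat_of_isLocalized_maximal T T (fun P _ => Localization.AtPrime P)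
    (fun P _ => Algebra.linearMap T _) fun P _ => ?_
  let q' := P.comap (algebraMap S T)
  have hgq : g ∉ q' := fun hmem => (inferInstance : P.IsPrime).ne_top
    (Ideal.eq_top_of_isUnit_mem P hmem (IsLocalization.Away.algebraMap_isUnit (S := T) g))
  have : Module.Flat R (LocalizedModule q'.primeCompl S) := hsub (show ⟨q', inferInstance⟩ ∈ _ from hgq)
  have : IsLocalization.AtPrime (Localization.AtPrime P) q' :=
    IsLocalization.isLocalization_atPrime_localization_atPrime (Submonoid.powers g) P
  have : IsLocalizedModule q'.primeCompl (Algebra.linearMap S (Localization.AtPrime P)) := inferInstance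
  exact Module.Flat.of_linearEquiv (((IsLocalizedModule.linearEquiv q'.primeCompl
    (LocalizedModule.mkLinearMap q'.primeCompl S)
    (Algebra.linearMap S (Localization.AtPrime P))).restrictScalars R).symm)

end Cut

/-- A quasi-finite point has a quasi-finite affine neighbourhood. -/
theorem exists_away_quasiFinite {S : Type u} [CommRing S] [Algebra R S] [Algebra.FiniteType R S]
    (q : Ideal S) [q.IsPrime] [Algebra.QuasiFiniteAt R q] :
    ∃ g ∉ q, Algebra.QuasiFinite R (Localization.Away g) := by
  obtain ⟨S', hS', r, hr, H⟩ :=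
    Algebra.QuasiFiniteAt.exists_fg_and_exists_notMem_and_awayMap_bijective (R := R) q
  refine ⟨r.1, hr, ?_⟩
  have : Module.Finite R S' := ⟨(Submodule.fg_top _).mpr hS'⟩
  have : Algebra.QuasiFinite R (Localization.Away r) := .trans _ S' _
  exact .of_surjective_algHom (Localization.awayMapₐ S'.val r) H.2

theorem exists_slice_aux [IsNoetherianRing R] (p : PrimeSpectrum R) :
    ∀ (n : ℕ) (S : Type u) [CommRing S] [Algebra R S] [Algebra.FiniteType R S] [Module.Flat R S],
      (∀ l : LTSeries (PrimeSpectrum.comap (algebraMap R S) ⁻¹' {p}), l.length ≤ n) →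
      p ∈ Set.range (PrimeSpectrum.comap (algebraMap R S)) →
      ∃ (T : Type u) (_ : CommRing T) (_ : Algebra R T), Algebra.FiniteType R T ∧ Module.Flat R T ∧
        Algebra.QuasiFinite R T ∧ Nonempty (S →ₐ[R] T) ∧
        p ∈ Set.range (PrimeSpectrum.comap (algebraMap R T)) := by
  intro n
  induction n using Nat.strong_induction_on with
  | _ n ih =>
  intro S _ _ _ _ hn hp
  classical
  let F := p.asIdeal.Fiber S
  let inc : S →+* F := (Algebra.TensorProduct.includeRight (R := R) (A := p.asIdeal.ResidueField)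
    (B := S)).toRingHom
  let eF := PrimeSpectrum.preimageOrderIsoFiber R S p
  obtain ⟨q₀, hq₀⟩ := hp
  have : IsNoetherianRing F := Algebra.FiniteType.isNoetherianRing p.asIdeal.ResidueField F
  have hne : Nonempty (PrimeSpectrum F) := ⟨eF ⟨q₀, hq₀⟩⟩
  by_cases hmax : ∀ P : Ideal F, P.IsPrime → P.IsMaximal
  · -- the fibre is finite
    have : Ring.KrullDimLE 0 F := Ring.KrullDimLE.mk₀ hmax
    have : IsArtinianRing F := IsNoetherianRing.isArtinianRing_of_krullDimLE_zero
    have : Algebra.QuasiFiniteAt R q₀.asIdeal := by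
      subst hq₀
      refine Algebra.QuasiFiniteAt.of_isOpen_singleton_fiber q₀ ?_
      rw [← (PrimeSpectrum.preimageHomeomorphFiber R S
        (PrimeSpectrum.comap (algebraMap R S) q₀)).isOpen_image]
      exact isOpen_discrete _
    obtain ⟨g, hg, hqf⟩ := exists_away_quasiFinite (R := R) q₀.asIdeal
    refine ⟨Localization.Away g, inferInstance, inferInstance,
      Algebra.FiniteType.trans (S := S) ‹_› inferInstance, Module.Flat.trans R S _, hqf,
      ⟨IsScalarTower.toAlgHom R S _⟩, ?_⟩
    obtain ⟨z, hz⟩ : q₀ ∈ Set.range (PrimeSpectrum.comap (algebraMap S (Localization.Away g))) := by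
      rw [PrimeSpectrum.localization_away_comap_range _ g]
      exact hg
    exact ⟨z, by rw [IsScalarTower.algebraMap_eq R S (Localization.Away g),
      PrimeSpectrum.comap_comp_apply, hz, hq₀]⟩
  · push Not at hmax
    obtain ⟨P, hP, hPmax⟩ := hmax
    have : IsJacobsonRing F := isJacobsonRing_of_finiteType (A := p.asIdeal.ResidueField)
    -- a maximal ideal which is not associated
    have hinf : {m : Ideal F | m.IsMaximal}.Infinite := by
      intro hfin
      have hsub : {J : Ideal F | P ≤ J ∧ J.IsMaximal} ⊆ {m : Ideal F | m.IsMaximal} := fun _ h => h.2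
      have hJ : Ideal.jacobson P = P := IsJacobsonRing.out' P hP.isRadical
      obtain ⟨J, hJmem, hJP⟩ := (hP.inf_le' (s := (hfin.subset hsub).toFinset) (f := id)).mp (by
        conv_rhs => rw [← hJ]
        refine le_sInf fun J hJ => ?_
        exact Finset.inf_le (f := id) ((hfin.subset hsub).mem_toFinset.mpr hJ))
      rw [Set.Finite.mem_toFinset] at hJmem
      exact hPmax (le_antisymm hJP hJmem.1 ▸ hJmem.2)
    have hassfin : (associatedPrimes F F).Finite := associatedPrimes.finite F F
    obtain ⟨m, hm, hmass⟩ := (hinf.sdiff hassfin).nonempty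
    have hm' : m.IsMaximal := hm
    obtain ⟨x, hxm, hx⟩ : ∃ x ∈ m, x ∈ nonZeroDivisors F := by
      by_contra hcon
      push Not at hcon
      have : (m : Set F) ⊆ ⋃ P ∈ hassfin.toFinset, (P : Set F) := by
        intro x hx
        have := hcon x hx
        have h2 : x ∈ ((nonZeroDivisors F : Set F))ᶜ := this
        rw [← biUnion_associatedPrimes_eq_compl_nonZeroDivisors] at h2
        simpa using h2
      obtain ⟨P', hP', hle⟩ := (Ideal.subset_union_prime ⊥ ⊥ fun P' hP' _ _ =>
        (hassfin.mem_toFinset.mp hP').isPrime).mp this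
      rw [hassfin.mem_toFinset] at hP'
      exact hmass (hm'.eq_of_le hP'.isPrime.ne_top hle ▸ hP')
    obtain ⟨r, hr, s, hrs⟩ := Ideal.Fiber.exists_smul_eq_one_tmul p.asIdeal x
    have hru : IsUnit (algebraMap R F r) := by
      rw [IsScalarTower.algebraMap_apply R p.asIdeal.ResidueField F]
      exact (isUnit_iff_ne_zero.mpr fun h => hr (Ideal.algebraMap_residueField_eq_zero.mp h)).map _
    rw [Algebra.smul_def] at hrs
    have hsF : (1 : p.asIdeal.ResidueField) ⊗ₜ[R] s ∈ nonZeroDivisors F := by
      rw [← hrs]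
      exact mul_mem hru.mem_nonZeroDivisors hx
    have hsm : inc s ∈ m := by
      change (1 : p.asIdeal.ResidueField) ⊗ₜ[R] s ∈ m
      rw [← hrs]
      exact m.mul_mem_left _ hxm
    obtain ⟨⟨q, hqp⟩, hq⟩ := eF.surjective ⟨m, hm'.isPrime⟩
    have hqm : ∀ z, z ∈ q.asIdeal ↔ inc z ∈ m := by
      intro z
      have h1 : (eF.symm ⟨m, hm'.isPrime⟩).1.asIdeal = q.asIdeal := by rw [← hq, eF.symm_apply_apply]
      rw [← h1]
      exact Iff.rfl
    have hsq : s ∈ q.asIdeal := (hqm s).mpr hsm
    have : q.asIdeal.LiesOver p.asIdeal := ⟨(congrArg PrimeSpectrum.asIdeal hqp).symm⟩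
    -- cut
    let S' := S ⧸ Ideal.span {s}
    let π := Ideal.Quotient.mk (Ideal.span {s})
    have hker : RingHom.ker π ≤ q.asIdeal := by
      rw [Ideal.mk_ker, Ideal.span_singleton_le_iff_mem]
      exact hsq
    let q' := q.asIdeal.map π
    have : q'.IsPrime := Ideal.map_isPrime_of_surjective Ideal.Quotient.mk_surjective hker
    have hcomap : q'.comap (algebraMap S S') = q.asIdeal := by
      change (q.asIdeal.map π).comap π = _
      rw [Ideal.comap_map_of_surjective _ Ideal.Quotient.mk_surjective, sup_eq_left]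
      exact hker
    have hflat : Module.Flat R (LocalizedModule q'.primeCompl S') := by
      rw [Groth.Agent.FlatLocus.flat_localized_iff_of_surjective (P := S) (S := S') (M := S')
        Ideal.Quotient.mk_surjective q']
      have : (q'.comap (algebraMap S S')).LiesOver p.asIdeal := by rw [hcomap]; infer_instance
      exact flat_quotient_localized p.asIdeal s hsF (q'.comap (algebraMap S S'))
    obtain ⟨g, hg, hflat'⟩ := exists_away_flat (R := R) q' hflat
    let T₀ := Localization.Away g
    have : Algebra.FiniteType R T₀ := Algebra.FiniteType.trans (S := S') inferInstance inferInstance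
    obtain ⟨z, hz⟩ : (⟨q', ‹_›⟩ : PrimeSpectrum S') ∈
        Set.range (PrimeSpectrum.comap (algebraMap S' T₀)) := by
      rw [PrimeSpectrum.localization_away_comap_range _ g]
      exact hg
    have hcomp : ∀ y : PrimeSpectrum T₀, PrimeSpectrum.comap (algebraMap R S)
        (PrimeSpectrum.comap ((algebraMap S' T₀).comp (algebraMap S S')) y) =
          PrimeSpectrum.comap (algebraMap R T₀) y := fun y => by
      rw [← PrimeSpectrum.comap_comp_apply, RingHom.comp_assoc, ← IsScalarTower.algebraMap_eq R S S',
        ← IsScalarTower.algebraMap_eq R S' T₀]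
    let φ : PrimeSpectrum.comap (algebraMap R T₀) ⁻¹' {p} →
        PrimeSpectrum.comap (algebraMap R S) ⁻¹' {p} := fun y =>
      ⟨PrimeSpectrum.comap ((algebraMap S' T₀).comp (algebraMap S S')) y.1, by
        rw [Set.mem_preimage, hcomp]; exact y.2⟩
    have hφinj : Function.Injective φ := by
      intro y y' h
      have h' := congrArg Subtype.val h
      simp only [φ, PrimeSpectrum.comap_comp_apply] at h'
      exact Subtype.ext (PrimeSpectrum.localization_comap_injective T₀ (Submonoid.powers g)
        (PrimeSpectrum.comap_injective_of_surjective _ Ideal.Quotient.mk_surjective h'))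
    have hφmono : Monotone φ := fun y y' h => Ideal.comap_mono h
    have hφs : ∀ y, s ∈ (φ y).1.asIdeal := fun y => by
      change algebraMap S' T₀ (π s) ∈ y.1.asIdeal
      rw [Ideal.Quotient.eq_zero_iff_mem.mpr (Ideal.mem_span_singleton_self s), map_zero]
      exact zero_mem _
    have key : ∀ l : LTSeries (PrimeSpectrum.comap (algebraMap R T₀) ⁻¹' {p}), l.length + 1 ≤ n := by
      intro l
      let L := l.map φ (hφmono.strictMono_of_injective hφinj)
      have hmem : inc s ∈ (eF L.head).asIdeal := by
        have h1 := hφs l.head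
        rw [show φ l.head = eF.symm (eF L.head) by rw [eF.symm_apply_apply]; rfl] at h1
        exact h1
      obtain ⟨Q₀, hQ₀, hQle⟩ := Ideal.exists_minimalPrimes_le (I := (⊥ : Ideal F))
        (J := (eF L.head).asIdeal) bot_le
      have hQ₀p : Q₀.IsPrime := hQ₀.1.1
      have hlt : (⟨Q₀, hQ₀p⟩ : PrimeSpectrum F) < eF L.head := by
        refine lt_of_le_of_ne hQle fun h => ?_
        rw [← h] at hmem
        exact Set.disjoint_left.mp (Ideal.disjoint_nonZeroDivisors_of_mem_minimalPrimes hQ₀) hmem hsF
      have hlt' : eF.symm ⟨Q₀, hQ₀p⟩ < L.head := by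
        rw [← eF.lt_iff_lt, eF.apply_symm_apply]
        exact hlt
      have := hn (L.cons _ hlt')
      simpa [L] using this
    have hz' : z ∈ PrimeSpectrum.comap (algebraMap R T₀) ⁻¹' {p} := by
      rw [Set.mem_preimage, ← hcomp, PrimeSpectrum.comap_comp_apply, hz,
        show PrimeSpectrum.comap (algebraMap S S') ⟨q', ‹_›⟩ = q from PrimeSpectrum.ext hcomap]
      exact hqp
    have hn1 : 1 ≤ n := (key (RelSeries.singleton _ ⟨z, hz'⟩)).trans' (by simp)
    obtain ⟨T, _, _, hT1, hT2, hT3, ⟨h⟩, hT4⟩ := ih (n - 1) (by omega) T₀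
      (fun l => by have := key l; omega) ⟨z, hz'⟩
    exact ⟨T, _, _, hT1, hT2, hT3,
      ⟨h.comp ((IsScalarTower.toAlgHom R S' T₀).comp (Ideal.Quotient.mkₐ R (Ideal.span {s})))⟩, hT4⟩

/-- Flat quasi-finite slices through every point of the image. -/
theorem exists_slice [IsNoetherianRing R] (S : Type u) [CommRing S] [Algebra R S]
    [Algebra.FiniteType R S] [Module.Flat R S] (p : PrimeSpectrum R)
    (hp : p ∈ Set.range (PrimeSpectrum.comap (algebraMap R S))) :
    ∃ (T : Type u) (_ : CommRing T) (_ : Algebra R T), Algebra.FiniteType R T ∧ Module.Flat R T ∧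
      Algebra.QuasiFinite R T ∧ Nonempty (S →ₐ[R] T) ∧
      p ∈ Set.range (PrimeSpectrum.comap (algebraMap R T)) := by
  let F := p.asIdeal.Fiber S
  obtain ⟨q, hq⟩ := hp
  have : Nonempty (PrimeSpectrum F) := ⟨PrimeSpectrum.preimageOrderIsoFiber R S p ⟨q, hq⟩⟩
  have htop : ringKrullDim F ≠ ⊤ := by
    obtain ⟨n, π, hπ⟩ := Algebra.FiniteType.iff_quotient_mvPolynomial''.mp
      (inferInstance : Algebra.FiniteType p.asIdeal.ResidueField F)
    refine ne_top_of_le_ne_top ?_ (ringKrullDim_le_of_surjective π.toRingHom hπ)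
    rw [MvPolynomial.ringKrullDim_of_isNoetherianRing, ringKrullDim_eq_zero_of_field, zero_add]
    exact WithBot.coe_inj.not.mpr (ENat.natCast_ne_top _)
  have : FiniteDimensionalOrder (PrimeSpectrum F) :=
    Order.finiteDimensionalOrder_iff_krullDim_ne_bot_and_top.mpr
      ⟨Order.krullDim_ne_bot_iff.mpr inferInstance, htop⟩
  refine exists_slice_aux p (LTSeries.longestOf (PrimeSpectrum F)).length S (fun l => ?_) ⟨q, hq⟩
  have := LTSeries.longestOf_is_longest
    (l.map _ (PrimeSpectrum.preimageOrderIsoFiber R S p).strictMono)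
  exact this

theorem quasiFinite_prod (T T' : Type u) [CommRing T] [CommRing T'] [Algebra R T] [Algebra R T']
    [Algebra.FiniteType R T] [Algebra.FiniteType R T'] [Algebra.QuasiFinite R T]
    [Algebra.QuasiFinite R T'] : Algebra.QuasiFinite R (T × T') := by
  rw [Algebra.QuasiFinite.iff_finite_comap_preimage_singleton]
  intro p
  refine (((Algebra.QuasiFinite.finite_comap_preimage_singleton (S := T) p).image
    (PrimeSpectrum.comap (RingHom.fst T T'))).union
    ((Algebra.QuasiFinite.finite_comap_preimage_singleton (S := T') p).image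
      (PrimeSpectrum.comap (RingHom.snd T T')))).subset ?_
  intro P hP
  rcases (Ideal.ideal_prod_prime P.asIdeal).mp P.2 with ⟨Q, hQ, hPQ⟩ | ⟨Q, hQ, hPQ⟩
  · have hP' : P = PrimeSpectrum.comap (RingHom.fst T T') ⟨Q, hQ⟩ := PrimeSpectrum.ext (by
      rw [hPQ]; ext x; simp)
    subst hP'
    left
    exact Set.mem_image_of_mem _ hP
  · have hP' : P = PrimeSpectrum.comap (RingHom.snd T T') ⟨Q, hQ⟩ := PrimeSpectrum.ext (by
      rw [hPQ]; ext x; simp)
    subst hP'
    right
    exact Set.mem_image_of_mem _ hP

/-- Combining finitely many slices. -/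
theorem exists_slice_finset (S : Type u) [CommRing S] [Algebra R S]
    {ι : Type*} (s : Finset ι) (U : ι → Set (PrimeSpectrum R))
    (hU : ∀ p ∈ s, ∃ (T : Type u) (_ : CommRing T) (_ : Algebra R T), Algebra.FiniteType R T ∧
      Module.Flat R T ∧ Algebra.QuasiFinite R T ∧ Nonempty (S →ₐ[R] T) ∧
      U p ⊆ Set.range (PrimeSpectrum.comap (algebraMap R T))) :
    ∃ (T : Type u) (_ : CommRing T) (_ : Algebra R T), Algebra.FiniteType R T ∧
      Module.Flat R T ∧ Algebra.QuasiFinite R T ∧ Nonempty (S →ₐ[R] T) ∧
      ∀ p ∈ s, U p ⊆ Set.range (PrimeSpectrum.comap (algebraMap R T)) := by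
  classical
  induction s using Finset.induction with
  | empty =>
    have : Subsingleton (S ⧸ (⊤ : Ideal S)) := Ideal.Quotient.subsingleton_iff.mpr rfl
    have : Module.Finite R (S ⧸ (⊤ : Ideal S)) :=
      .of_surjective (0 : R →ₗ[R] S ⧸ (⊤ : Ideal S)) fun x => ⟨0, Subsingleton.elim _ _⟩
    exact ⟨S ⧸ (⊤ : Ideal S), inferInstance, inferInstance, inferInstance, inferInstance,
      inferInstance, ⟨Ideal.Quotient.mkₐ R _⟩, by simp⟩
  | insert a s _ ih =>
    obtain ⟨T, _, _, h1, h2, h3, ⟨h4⟩, h5⟩ :=
      ih fun p hp => hU p (Finset.mem_insert_of_mem hp)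
    obtain ⟨T', _, _, k1, k2, k3, ⟨k4⟩, k5⟩ := hU a (Finset.mem_insert_self a s)
    refine ⟨T × T', inferInstance, inferInstance, inferInstance, ModModel.flat_prod T T',
      quasiFinite_prod T T', ⟨h4.prod k4⟩, fun p hp => ?_⟩
    rcases Finset.mem_insert.mp hp with rfl | hp
    · refine k5.trans ?_
      rintro _ ⟨z, rfl⟩
      exact ⟨PrimeSpectrum.comap (RingHom.snd T T') z, by
        rw [← PrimeSpectrum.comap_comp_apply]; rfl⟩
    · refine (h5 p hp).trans ?_
      rintro _ ⟨z, rfl⟩
      exact ⟨PrimeSpectrum.comap (RingHom.fst T T') z, by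
        rw [← PrimeSpectrum.comap_comp_apply]; rfl⟩

/-- The image of a base change contains the preimage of the image. -/
theorem mem_range_comap_baseChange {A : Type u} [CommRing A] [Algebra A R] {T : Type u} [CommRing T]
    [Algebra A T] (p : PrimeSpectrum R)
    (h : PrimeSpectrum.comap (algebraMap A R) p ∈ Set.range (PrimeSpectrum.comap (algebraMap A T))) :
    p ∈ Set.range (PrimeSpectrum.comap (algebraMap R (R ⊗[A] T))) := by
  let p₀ := p.asIdeal.under A
  have : p.asIdeal.LiesOver p₀ := ⟨rfl⟩
  let k₀ := p₀.ResidueField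
  let k := p.asIdeal.ResidueField
  let _ : Algebra k₀ k := (Ideal.ResidueField.map p₀ p.asIdeal (algebraMap A R) rfl).toAlgebra
  have : IsScalarTower A k₀ k := IsScalarTower.of_algebraMap_eq fun a => by
    change algebraMap A k a = Ideal.ResidueField.map p₀ p.asIdeal (algebraMap A R) rfl (algebraMap A k₀ a)
    rw [Ideal.ResidueField.map_algebraMap, ← IsScalarTower.algebraMap_apply A R k]
  have h₀ : Nontrivial (k₀ ⊗[A] T) :=
    (PrimeSpectrum.nontrivial_iff_mem_rangeComap (PrimeSpectrum.comap (algebraMap A R) p)).mpr h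
  rw [← PrimeSpectrum.nontrivial_iff_mem_rangeComap]
  have : Nontrivial (k ⊗[k₀] (k₀ ⊗[A] T)) := Module.FaithfullyFlat.lTensor_nontrivial k₀ k _
  exact ((TensorProduct.AlgebraTensorModule.cancelBaseChange A R R k T).toEquiv.trans
    (TensorProduct.AlgebraTensorModule.cancelBaseChange A k₀ k k T).toEquiv.symm).nontrivial

/-- A faithfully flat finitely presented algebra has a quasi-finite faithfully flat slice. -/
theorem exists_qf_faithfullyFlat (R : Type u) [CommRing R] (S : Type u) [CommRing S] [Algebra R S]
    [Module.FaithfullyFlat R S] [Algebra.FinitePresentation R S] :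
    ∃ (S' : Type u) (_ : CommRing S') (_ : Algebra R S'),
      Algebra.QuasiFinite R S' ∧ Algebra.FiniteType R S' ∧ Module.FaithfullyFlat R S' ∧
        Algebra.FinitePresentation R S' ∧ Nonempty (S →ₐ[R] S') := by
  classical
  obtain ⟨A, C, _, _, hA, hflat, hfp, ⟨e⟩⟩ := GenFlat.exists_flat_model (K := ℤ) (B := R) (C := S)
  have : Algebra.FiniteType ℤ A := A.fg_iff_finiteType.mp hA
  have : IsNoetherianRing A := Algebra.FiniteType.isNoetherianRing ℤ A
  have : Algebra.FiniteType A C := inferInstance
  have hslice : ∀ p : PrimeSpectrum R, ∃ (T : Type u) (_ : CommRing T) (_ : Algebra A T),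
      Algebra.FiniteType A T ∧ Module.Flat A T ∧ Algebra.QuasiFinite A T ∧ Nonempty (C →ₐ[A] T) ∧
      PrimeSpectrum.comap (algebraMap A R) p ∈ Set.range (PrimeSpectrum.comap (algebraMap A T)) := by
    intro p
    obtain ⟨Q, hQ⟩ := PrimeSpectrum.comap_surjective_of_faithfullyFlat (A := R) (B := S) p
    refine exists_slice C _ ⟨PrimeSpectrum.comap (e.symm.toRingEquiv.toRingHom.comp
      (Algebra.TensorProduct.includeRight (R := A) (A := R) (B := C)).toRingHom) Q, ?_⟩
    rw [← hQ, ← PrimeSpectrum.comap_comp_apply, ← PrimeSpectrum.comap_comp_apply]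
    congr 1
    ext a
    simp only [RingHom.comp_apply]
    change e.symm ((1 : R) ⊗ₜ[A] algebraMap A C a) = _
    rw [← e.symm.commutes]
    congr 1
    exact (Algebra.TensorProduct.includeRight (R := A) (A := R) (B := C)).commutes a
  choose T i1 i2 h1 h2 h3 h4 h5 using hslice
  let W : PrimeSpectrum R → Set (PrimeSpectrum A) := fun p =>
    letI := i1 p; letI := i2 p
    Set.range (PrimeSpectrum.comap (algebraMap A (T p)))
  have hW : ∀ p, IsOpen (W p) := fun p => by
    letI := i1 p; letI := i2 p
    have := h1 p; have := h2 p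
    have : Algebra.FinitePresentation A (T p) := Algebra.FinitePresentation.of_finiteType.mp (h1 p)
    exact (PrimeSpectrum.isOpenMap_comap_of_hasGoingDown_of_finitePresentation).isOpen_range
  obtain ⟨s, hs⟩ := (isCompact_univ (X := PrimeSpectrum R)).elim_finite_subcover
    (fun p => PrimeSpectrum.comap (algebraMap A R) ⁻¹' W p)
    (fun p => (hW p).preimage (PrimeSpectrum.continuous_comap (algebraMap A R)))
    (fun p _ => Set.mem_iUnion.mpr ⟨p, h5 p⟩)
  obtain ⟨T₁, _, _, k1, k2, k3, ⟨k4⟩, k5⟩ := exists_slice_finset (R := A) C s W (fun p _ =>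
    letI := i1 p; letI := i2 p
    ⟨T p, i1 p, i2 p, h1 p, h2 p, h3 p, h4 p, subset_rfl⟩)
  have : Algebra.FinitePresentation A T₁ := Algebra.FinitePresentation.of_finiteType.mp k1
  refine ⟨R ⊗[A] T₁, inferInstance, inferInstance, inferInstance, inferInstance, ?_, inferInstance,
    ⟨(Algebra.TensorProduct.map (AlgHom.id R R) k4).comp e.toAlgHom⟩⟩
  refine Module.FaithfullyFlat.of_comap_surjective fun p => ?_
  obtain ⟨p', hp', hpW⟩ := Set.mem_iUnion₂.mp (hs (Set.mem_univ p))
  exact mem_range_comap_baseChange (A := A) p (k5 p' hp' hpW)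

end Groth.Agent.QFFlatSlice
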